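import Mathlib
import Groth.Prelude.Def_W4c4lgringredgrpLG

/-! Local-global rings: points, matrices and cancellation. -/

set_option autoImplicit false

universe u v w

noncomputable section

open TensorProduct MvPolynomial

namespace Groth.LG

variable {R : Type u} [CommRing R]

theorem exists_unit (hR : LGRing.IsLGRing R) {σ : Type} [Fintype σ] (F : MvPolynomial σ R)
    (h : ∀ (m : Ideal R) [m.IsMaximal], ∃ x : σ → R ⧸ m, aeval x F ≠ 0) :
    ∃ x : σ → R, IsUnit (eval x F) := by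
  obtain ⟨x, hx⟩ := hR _ (rename (Fintype.equivFin σ) F) fun m hm => by
    letI := Ideal.Quotient.field m
    obtain ⟨x, hx⟩ := h m
    refine ⟨x ∘ (Fintype.equivFin σ).symm, ?_⟩
    rw [aeval_rename, Function.comp_assoc, Equiv.symm_comp_self, Function.comp_id]
    exact isUnit_iff_ne_zero.2 hx
  refine ⟨x ∘ Fintype.equivFin σ, ?_⟩
  rwa [aeval_rename] at hx

theorem exists_span_eq_top (hR : LGRing.IsLGRing R) {σ : Type} [Fintype σ] (t : Finset (MvPolynomial σ R))
    (h : ∀ (m : Ideal R) [m.IsMaximal], ∃ x : σ → R ⧸ m, ∃ a ∈ t, aeval x a ≠ 0) :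
    ∃ x : σ → R, Ideal.span (eval x '' (t : Set (MvPolynomial σ R))) = ⊤ := by
  classical
  obtain ⟨r, e⟩ : ∃ r, Nonempty (Fin r ≃ t) := ⟨t.card, ⟨t.equivFin.symm⟩⟩
  obtain ⟨e⟩ := e
  let F : MvPolynomial (σ ⊕ Fin r) R := ∑ i, X (Sum.inr i) * rename Sum.inl (e i).1
  obtain ⟨y, hy⟩ := exists_unit hR F fun m hm => by
    obtain ⟨x, a, ha, hax⟩ := h m
    refine ⟨Sum.elim x (Pi.single (e.symm ⟨a, ha⟩) 1), ?_⟩
    simpa [F, map_sum, Pi.single_apply, aeval_rename] using hax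
  refine ⟨y ∘ Sum.inl, Ideal.eq_top_of_isUnit_mem _ ?_ hy⟩
  simp only [F, map_sum, map_mul, eval_rename]
  exact Ideal.sum_mem _ fun i _ => Ideal.mul_mem_left _ _ (Ideal.subset_span ⟨_, (e i).2, rfl⟩)

section Spec

variable {A : Type v} [CommRing A] {B : Type w} [CommRing B]

theorem range_comap_subset_iff (φ : A →+* B) (t : Set A) :
    Set.range (PrimeSpectrum.comap φ) ⊆ (PrimeSpectrum.zeroLocus t)ᶜ ↔ Ideal.span (φ '' t) = ⊤ := by
  rw [← PrimeSpectrum.zeroLocus_empty_iff_eq_top, PrimeSpectrum.zeroLocus_span, Set.eq_empty_iff_forall_notMem]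
  refine ⟨fun h p hp => h ⟨p, rfl⟩ ?_, ?_⟩
  · rw [PrimeSpectrum.mem_zeroLocus] at hp ⊢
    exact fun a ha => hp ⟨a, ha, rfl⟩
  · rintro h _ ⟨p, rfl⟩ hp
    refine h p ?_
    rw [PrimeSpectrum.mem_zeroLocus] at hp ⊢
    rintro _ ⟨a, ha, rfl⟩
    exact hp ha

theorem span_image_field {K : Type w} [Field K] (φ : A →+* K) (t : Set A) :
    Ideal.span (φ '' t) = ⊤ ↔ ∃ a ∈ t, φ a ≠ 0 := by
  constructor
  · intro h
    by_contra hc
    push Not at hc
    have h0 : Ideal.span (φ '' t) = ⊥ := Ideal.span_eq_bot.2 (by rintro _ ⟨a, ha, rfl⟩; exact hc a ha)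
    exact top_ne_bot (h.symm.trans h0)
  · rintro ⟨a, ha, hne⟩
    exact Ideal.eq_top_of_isUnit_mem _ (Ideal.subset_span ⟨a, ha, rfl⟩) hne.isUnit

end Spec

section Modules

variable {M : Type v} [AddCommGroup M] [Module R M] {N : Type w} [AddCommGroup N] [Module R N]

theorem finrank_residue [Module.Finite R M] [Module.Projective R M] (m : Ideal R) [m.IsMaximal]
    [hk : Module.Free (R ⧸ m) ((R ⧸ m) ⊗[R] M)] :
    Module.finrank (R ⧸ m) ((R ⧸ m) ⊗[R] M) = Module.rankAtStalk M (⟨m, inferInstance⟩ : PrimeSpectrum R) := by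
  let p : PrimeSpectrum (R ⧸ m) := ⟨⊥, Ideal.isPrime_bot⟩
  have h1 := Module.rankAtStalk_baseChange (R := R) (M := M) p
  rw [Module.rankAtStalk_eq_finrank_of_free, Pi.natCast_apply, Nat.cast_id] at h1
  rw [h1]
  congr 1
  ext1
  exact Ideal.mk_ker

theorem det_eq_one {n : ℕ} (T : (Fin n → R) →ₗ[R] (Fin n → R)) (m : Ideal R)
    (hT : T.baseChange (R ⧸ m) = LinearMap.id) :
    Ideal.Quotient.mk m (LinearMap.toMatrix' T).det = 1 := by
  classical
  rw [RingHom.map_det]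
  convert Matrix.det_one (n := Fin n) (R := R ⧸ m)
  ext i j
  have := congrArg ((TensorProduct.piScalarRight R R (R ⧸ m) (Fin n)) ·)
    (LinearMap.congr_fun hT ((1 : R ⧸ m) ⊗ₜ[R] Pi.single j 1))
  have := congr_fun this i
  simp only [LinearMap.baseChange_tmul, LinearMap.id_apply, TensorProduct.piScalarRight_apply,
    TensorProduct.piScalarRightHom_tmul] at this
  rw [RingHom.mapMatrix_apply, Matrix.map_apply, LinearMap.toMatrix'_apply, Matrix.one_apply]
  simp only [Algebra.smul_def, mul_one, Ideal.Quotient.algebraMap_eq] at this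
  rw [this]
  simp [Pi.single_apply]

theorem bijective_of_isUnit_det {A : Type v} [AddCommGroup A] [Module R A] {a : ℕ} (uA : A →ₗ[R] (Fin a → R))
    (vA : (Fin a → R) →ₗ[R] A) (hA : vA ∘ₗ uA = LinearMap.id) (φ : A →ₗ[R] A)
    (hu : IsUnit (LinearMap.toMatrix' (uA ∘ₗ φ ∘ₗ vA + (LinearMap.id - uA ∘ₗ vA))).det) : Function.Bijective φ := by
  set T : Module.End R (Fin a → R) := uA ∘ₗ φ ∘ₗ vA + (LinearMap.id - uA ∘ₗ vA) with hTdef
  have hT : Function.Bijective T := by
    have h1 : (T : (Fin a → R) → Fin a → R) = (LinearMap.toMatrix' T).mulVec := funext fun z => by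
      rw [← Matrix.toLin'_apply, Matrix.toLin'_toMatrix']
    rw [h1]
    have hU := (Matrix.isUnit_iff_isUnit_det _).2 hu
    exact ⟨Matrix.mulVec_injective_of_isUnit hU, Matrix.mulVec_surjective_iff_isUnit.2 hU⟩
  have hvu : ∀ x, vA (uA x) = x := fun x => LinearMap.congr_fun hA x
  constructor
  · refine (injective_iff_map_eq_zero _).2 fun x hx => ?_
    have : T (uA x) = 0 := by simp [T, hvu, hx]
    have h0 := (injective_iff_map_eq_zero _).1 hT.1 _ this
    rw [← hvu x, h0, map_zero]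
  · intro x
    obtain ⟨z, hz⟩ := hT.2 (uA x)
    refine ⟨vA z, ?_⟩
    have := congrArg vA hz
    simpa [T, hvu] using this

variable [Module.Finite R M] [Module.Projective R M] [Module.Finite R N] [Module.Projective R N]

/-- Modules with the same rank at every closed point are isomorphic. -/
theorem nonempty_equiv (hR : LGRing.IsLGRing R)
    (h : ∀ (m : Ideal R) [m.IsMaximal], Module.rankAtStalk M (⟨m, inferInstance⟩ : PrimeSpectrum R) =
      Module.rankAtStalk N (⟨m, inferInstance⟩ : PrimeSpectrum R)) : Nonempty (M ≃ₗ[R] N) := by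
  classical
  obtain ⟨p, vM, hvM⟩ := Module.Finite.exists_fin' R M
  obtain ⟨q, vN, hvN⟩ := Module.Finite.exists_fin' R N
  obtain ⟨uM, huM⟩ := Module.projective_lifting_property vM LinearMap.id hvM
  obtain ⟨uN, huN⟩ := Module.projective_lifting_property vN LinearMap.id hvN
  let Xl : Matrix (Fin q) (Fin p) R → (M →ₗ[R] N) := fun X => vN ∘ₗ Matrix.toLin' X ∘ₗ uM
  let Yl : Matrix (Fin p) (Fin q) R → (N →ₗ[R] M) := fun Y => vM ∘ₗ Matrix.toLin' Y ∘ₗ uN
  let TM : Matrix (Fin q) (Fin p) R → Matrix (Fin p) (Fin q) R → Module.End R (Fin p → R) := fun X Y =>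
    uM ∘ₗ (Yl Y ∘ₗ Xl X) ∘ₗ vM + (LinearMap.id - uM ∘ₗ vM)
  let TN : Matrix (Fin q) (Fin p) R → Matrix (Fin p) (Fin q) R → Module.End R (Fin q → R) := fun X Y =>
    uN ∘ₗ (Xl X ∘ₗ Yl Y) ∘ₗ vN + (LinearMap.id - uN ∘ₗ vN)
  let PM := LinearMap.toMatrix' (uM ∘ₗ vM)
  let PN := LinearMap.toMatrix' (uN ∘ₗ vN)
  let Xg : Matrix (Fin q) (Fin p) (MvPolynomial ((Fin q × Fin p) ⊕ (Fin p × Fin q)) R) :=
    Matrix.of fun i j => X (Sum.inl (i, j))
  let Yg : Matrix (Fin p) (Fin q) (MvPolynomial ((Fin q × Fin p) ⊕ (Fin p × Fin q)) R) :=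
    Matrix.of fun i j => X (Sum.inr (i, j))
  let PMg : Matrix (Fin p) (Fin p) (MvPolynomial ((Fin q × Fin p) ⊕ (Fin p × Fin q)) R) := PM.map C
  let PNg : Matrix (Fin q) (Fin q) (MvPolynomial ((Fin q × Fin p) ⊕ (Fin p × Fin q)) R) := PN.map C
  let F : MvPolynomial ((Fin q × Fin p) ⊕ (Fin p × Fin q)) R :=
    (PMg * Yg * PNg * Xg * PMg + (1 - PMg)).det * (PNg * Xg * PMg * Yg * PNg + (1 - PNg)).det
  have heval : ∀ y : (Fin q × Fin p) ⊕ (Fin p × Fin q) → R, eval y F =
      (LinearMap.toMatrix' (TM (Matrix.of fun i j => y (Sum.inl (i, j))) (Matrix.of fun i j => y (Sum.inr (i, j))))).det *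
      (LinearMap.toMatrix' (TN (Matrix.of fun i j => y (Sum.inl (i, j))) (Matrix.of fun i j => y (Sum.inr (i, j))))).det := by
    intro y
    have hC : ∀ {a b : Type} (A : Matrix a b R), (A.map C).map (eval y) = A := fun A => by ext; simp
    have hXg : Xg.map (eval y) = Matrix.of fun i j => y (Sum.inl (i, j)) := by ext; simp [Xg]
    have hYg : Yg.map (eval y) = Matrix.of fun i j => y (Sum.inr (i, j)) := by ext; simp [Yg]
    simp only [F, PMg, PNg, map_mul, RingHom.map_det, map_add, map_sub, map_one, RingHom.mapMatrix_apply, Matrix.map_mul,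
      hC, hXg, hYg]
    have eM : ∀ X Y, TM X Y = (uM ∘ₗ vM) ∘ₗ Matrix.toLin' Y ∘ₗ (uN ∘ₗ vN) ∘ₗ Matrix.toLin' X ∘ₗ (uM ∘ₗ vM) +
        (LinearMap.id - uM ∘ₗ vM) := fun X Y => by simp only [TM, Xl, Yl, LinearMap.comp_assoc]
    have eN : ∀ X Y, TN X Y = (uN ∘ₗ vN) ∘ₗ Matrix.toLin' X ∘ₗ (uM ∘ₗ vM) ∘ₗ Matrix.toLin' Y ∘ₗ (uN ∘ₗ vN) +
        (LinearMap.id - uN ∘ₗ vN) := fun X Y => by simp only [TN, Xl, Yl, LinearMap.comp_assoc]
    simp only [eM, eN, PM, PN, map_add, map_sub, LinearMap.toMatrix'_id, LinearMap.toMatrix'_comp,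
      LinearMap.toMatrix'_toLin', Matrix.mul_assoc]
  obtain ⟨y, hy⟩ := exists_unit hR F fun m hm => by
    letI := Ideal.Quotient.field m
    have hd : Module.finrank (R ⧸ m) ((R ⧸ m) ⊗[R] M) = Module.finrank (R ⧸ m) ((R ⧸ m) ⊗[R] N) := by
      rw [finrank_residue m, finrank_residue m, h m]
    let e := LinearEquiv.ofFinrankEq _ _ hd
    obtain ⟨f, hf⟩ : ∃ f : M →ₗ[R] N, f.baseChange (R ⧸ m) = e.toLinearMap := by
      obtain ⟨f, hf⟩ := Module.projective_lifting_property (TensorProduct.mk R (R ⧸ m) N 1)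
        ((e.toLinearMap.restrictScalars R) ∘ₗ TensorProduct.mk R (R ⧸ m) M 1)
        (TensorProduct.mk_surjective R N (R ⧸ m) Ideal.Quotient.mk_surjective)
      refine ⟨f, AlgebraTensorModule.curry_injective (LinearMap.ext_ring (LinearMap.ext fun x => ?_))⟩
      simpa using LinearMap.congr_fun hf x
    obtain ⟨g, hg⟩ : ∃ g : N →ₗ[R] M, g.baseChange (R ⧸ m) = e.symm.toLinearMap := by
      obtain ⟨g, hg⟩ := Module.projective_lifting_property (TensorProduct.mk R (R ⧸ m) M 1)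
        ((e.symm.toLinearMap.restrictScalars R) ∘ₗ TensorProduct.mk R (R ⧸ m) N 1)
        (TensorProduct.mk_surjective R M (R ⧸ m) Ideal.Quotient.mk_surjective)
      refine ⟨g, AlgebraTensorModule.curry_injective (LinearMap.ext_ring (LinearMap.ext fun x => ?_))⟩
      simpa using LinearMap.congr_fun hg x
    let X0 : Matrix (Fin q) (Fin p) R := LinearMap.toMatrix' (uN ∘ₗ f ∘ₗ vM)
    let Y0 : Matrix (Fin p) (Fin q) R := LinearMap.toMatrix' (uM ∘ₗ g ∘ₗ vN)
    have hX0 : Xl X0 = f := by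
      simp only [Xl, X0, Matrix.toLin'_toMatrix', ← LinearMap.comp_assoc, huN, LinearMap.id_comp]
      rw [LinearMap.comp_assoc, huM, LinearMap.comp_id]
    have hY0 : Yl Y0 = g := by
      simp only [Yl, Y0, Matrix.toLin'_toMatrix', ← LinearMap.comp_assoc, huM, LinearMap.id_comp]
      rw [LinearMap.comp_assoc, huN, LinearMap.comp_id]
    have h1 : (TM X0 Y0).baseChange (R ⧸ m) = LinearMap.id := by
      simp only [TM, hX0, hY0, LinearMap.baseChange_add, LinearMap.baseChange_sub, LinearMap.baseChange_comp,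
        LinearMap.baseChange_id, hf, hg, LinearEquiv.symm_comp, LinearMap.id_comp]
      abel
    have h2 : (TN X0 Y0).baseChange (R ⧸ m) = LinearMap.id := by
      simp only [TN, hX0, hY0, LinearMap.baseChange_add, LinearMap.baseChange_sub, LinearMap.baseChange_comp,
        LinearMap.baseChange_id, hf, hg, LinearEquiv.comp_symm, LinearMap.id_comp]
      abel
    let y0 : (Fin q × Fin p) ⊕ (Fin p × Fin q) → R := Sum.elim (fun ij => X0 ij.1 ij.2) fun ij => Y0 ij.1 ij.2
    refine ⟨Ideal.Quotient.mk m ∘ y0, ?_⟩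
    have h3 : aeval (Ideal.Quotient.mk m ∘ y0) F = Ideal.Quotient.mk m (eval y0 F) := by
      have := MvPolynomial.aeval_algebraMap_apply (B := R ⧸ m) y0 F
      rwa [Ideal.Quotient.algebraMap_eq] at this
    rw [h3, heval, map_mul]
    rw [show (Matrix.of fun i j => y0 (Sum.inl (i, j))) = X0 from rfl,
      show (Matrix.of fun i j => y0 (Sum.inr (i, j))) = Y0 from rfl, det_eq_one _ m h1, det_eq_one _ m h2, one_mul]
    exact one_ne_zero
  rw [heval, IsUnit.mul_iff] at hy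
  set f := Xl (Matrix.of fun i j => y (Sum.inl (i, j)))
  set g := Yl (Matrix.of fun i j => y (Sum.inr (i, j)))
  have h1 := bijective_of_isUnit_det uM vM huM (g ∘ₗ f) hy.1
  have h2 := bijective_of_isUnit_det uN vN huN (f ∘ₗ g) hy.2
  exact ⟨LinearEquiv.ofBijective f ⟨Function.Injective.of_comp (g := f) (f := g) h1.1, Function.Surjective.of_comp (g := g) h2.2⟩⟩

end Modules

end Groth.LG
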