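import Mathlib
import Groth.Agent.LG.Basic
import Groth.Agent.Misc1.Azumaya.Basic
import Groth.Agent.CSA.SimpleModules
import Groth.Agent.S19587
import Groth.Agent.S19589

/-! Modules over Azumaya algebras over local-global rings. -/

set_option autoImplicit false

universe u v w w'

noncomputable section

open TensorProduct MvPolynomial

namespace Groth.LG

variable {R : Type u} [CommRing R] {A : Type v} [Ring A] [Algebra R A]

/-- The base change of a module as a representation of the base change of the algebra. -/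
def rho (S : Type u) [CommRing S] [Algebra R S] (M : Type w) [AddCommGroup M] [Module R M] [Module A M]
    [IsScalarTower R A M] : S ⊗[R] A →ₐ[S] Module.End S (S ⊗[R] M) :=
  Algebra.TensorProduct.lift (Algebra.ofId S _)
    ((Module.End.baseChangeHom R S M).comp (Algebra.lsmul R R M))
    (fun s a => Algebra.commutes s _)

theorem rho_tmul (S : Type u) [CommRing S] [Algebra R S] (M : Type w) [AddCommGroup M] [Module R M] [Module A M]
    [IsScalarTower R A M] (s t : S) (a : A) (x : M) :
    rho S M (s ⊗ₜ[R] a) (t ⊗ₜ[R] x) = (s * t) ⊗ₜ[R] (a • x) := by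
  rw [rho, Algebra.TensorProduct.lift_tmul]
  show (algebraMap S (Module.End S (S ⊗[R] M)) s) ((Algebra.lsmul R R M a).baseChange S (t ⊗ₜ[R] x)) = _
  simp [TensorProduct.smul_tmul']

variable (R A)

theorem finite_hom [Module.Finite R A] (M : Type w) (N : Type w') [AddCommGroup M] [Module A M] [Module.Finite A M]
    [Module.Projective A M] [AddCommGroup N] [Module R N] [Module A N] [IsScalarTower R A N] [Module.Finite A N] :
    Module.Finite R (M →ₗ[A] N) := by
  obtain ⟨p, π, hπ⟩ := Module.Finite.exists_fin' A M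
  obtain ⟨u, hu⟩ := Module.projective_lifting_property π LinearMap.id hπ
  haveI : Module.Finite R N := Module.Finite.trans A N
  let Φ : (Fin p → N) →ₗ[R] (M →ₗ[A] N) :=
    { toFun := fun y => (∑ i, (LinearMap.proj i : (Fin p → A) →ₗ[A] A).smulRight (y i)) ∘ₗ u
      map_add' := fun y z => LinearMap.ext fun x => by simp [smul_add, Finset.sum_add_distrib]
      map_smul' := fun r y => LinearMap.ext fun x => by simp [smul_comm _ r, Finset.smul_sum] }
  refine Module.Finite.of_surjective Φ fun f => ⟨fun i => f (π (Pi.single i 1)), LinearMap.ext fun x => ?_⟩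
  show ((∑ i, (LinearMap.proj i : (Fin p → A) →ₗ[A] A).smulRight (f (π (Pi.single i 1)))) ∘ₗ u) x = f x
  conv_rhs => rw [← LinearMap.id_apply (R := A) x, ← hu, LinearMap.comp_apply, pi_eq_sum_univ' (u x)]
  simp [map_sum, map_smul]

variable {R A}

theorem projective_of_projective [Module.Projective R A] (M : Type w) [AddCommGroup M] [Module R M] [Module A M]
    [IsScalarTower R A M] [Module.Projective A M] [Module.Finite A M] : Module.Projective R M := by
  obtain ⟨p, π, hπ⟩ := Module.Finite.exists_fin' A M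
  obtain ⟨u, hu⟩ := Module.projective_lifting_property π LinearMap.id hπ
  haveI : Module.Projective R (Fin p → A) := Module.Projective.of_equiv (DFinsupp.linearEquivFunOnFintype (R := R) (M := fun _ : Fin p => A))
  exact Module.Projective.of_split (u.restrictScalars R) (π.restrictScalars R)
    (LinearMap.ext fun x => LinearMap.congr_fun hu x)

theorem exists_surjective (hR : LGRing.IsLGRing R) [IsAzumaya R A] {M N : Type w}
    [AddCommGroup M] [Module R M] [Module A M] [IsScalarTower R A M] [Module.Finite A M] [Module.Projective A M]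
    [AddCommGroup N] [Module R N] [Module A N] [IsScalarTower R A N] [Module.Finite A N] [Module.Projective A N]
    (h : ∀ (m : Ideal R) [m.IsMaximal], Module.rankAtStalk N (⟨m, inferInstance⟩ : PrimeSpectrum R) ≤
      Module.rankAtStalk M (⟨m, inferInstance⟩ : PrimeSpectrum R)) :
    ∃ f : M →ₗ[A] N, Function.Surjective f := by
  classical
  haveI : Module.Finite R M := Module.Finite.trans A M
  haveI : Module.Finite R N := Module.Finite.trans A N
  haveI : Module.Projective R M := projective_of_projective (A := A) _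
  haveI : Module.Projective R N := projective_of_projective (A := A) _
  haveI := finite_hom R A M N
  haveI := finite_hom R A N M
  obtain ⟨a, Fm, hFm⟩ := Module.Finite.exists_fin' R (M →ₗ[A] N)
  obtain ⟨b, Gm, hGm⟩ := Module.Finite.exists_fin' R (N →ₗ[A] M)
  obtain ⟨q, vN, hvN⟩ := Module.Finite.exists_fin' R N
  obtain ⟨uN, huN⟩ := Module.projective_lifting_property vN LinearMap.id hvN
  let P0 : Matrix (Fin q) (Fin q) R := LinearMap.toMatrix' (LinearMap.id - uN ∘ₗ vN)
  let T : (Fin a → R) → (Fin b → R) → Module.End R (Fin q → R) := fun x y =>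
    uN ∘ₗ ((Fm x).restrictScalars R ∘ₗ (Gm y).restrictScalars R) ∘ₗ vN + (LinearMap.id - uN ∘ₗ vN)
  let Mat : Fin a → Fin b → Matrix (Fin q) (Fin q) R := fun i j =>
    LinearMap.toMatrix' (uN ∘ₗ ((Fm (Pi.single i 1)).restrictScalars R ∘ₗ (Gm (Pi.single j 1)).restrictScalars R) ∘ₗ vN)
  let F : MvPolynomial (Fin a ⊕ Fin b) R :=
    Matrix.det (∑ i, ∑ j, (X (Sum.inl i) * X (Sum.inr j) : MvPolynomial (Fin a ⊕ Fin b) R) • (Mat i j).map C + P0.map C)
  have heval : ∀ y : Fin a ⊕ Fin b → R, eval y F = (LinearMap.toMatrix' (T (y ∘ Sum.inl) (y ∘ Sum.inr))).det := by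
    intro y
    simp only [F, RingHom.map_det]
    congr 1
    have hx : Fm (y ∘ Sum.inl) = ∑ i, y (Sum.inl i) • Fm (Pi.single i 1) := by
      conv_lhs => rw [pi_eq_sum_univ' (y ∘ Sum.inl)]
      simp
    have hy : Gm (y ∘ Sum.inr) = ∑ j, y (Sum.inr j) • Gm (Pi.single j 1) := by
      conv_lhs => rw [pi_eq_sum_univ' (y ∘ Sum.inr)]
      simp
    have hT : T (y ∘ Sum.inl) (y ∘ Sum.inr) = (∑ i, ∑ j, (y (Sum.inl i) * y (Sum.inr j)) •
        (uN ∘ₗ ((Fm (Pi.single i 1)).restrictScalars R ∘ₗ (Gm (Pi.single j 1)).restrictScalars R) ∘ₗ vN)) +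
          (LinearMap.id - uN ∘ₗ vN) := by
      refine LinearMap.ext fun z => ?_
      simp only [T, hx, hy, LinearMap.add_apply, LinearMap.comp_apply, LinearMap.restrictScalars_apply,
        LinearMap.sum_apply, LinearMap.smul_apply, map_sum, LinearMap.map_smul_of_tower, map_smul]
      congr 1
      simp only [Finset.smul_sum, smul_smul]
      rw [Finset.sum_comm]
      exact Finset.sum_congr rfl fun i _ => Finset.sum_congr rfl fun j _ => by rw [mul_comm]
    rw [hT]
    ext r s
    simp [Mat, P0, Matrix.sum_apply, map_sum, Matrix.one_apply, Pi.single_apply]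
  obtain ⟨y, hy⟩ := exists_unit hR F fun m hm => by
    letI := Ideal.Quotient.field m
    haveI := Groth.Azum.baseChange R A (R ⧸ m)
    obtain ⟨_, _⟩ := (Groth.Azum.isAzumaya_iff_field (R ⧸ m) ((R ⧸ m) ⊗[R] A)).1 inferInstance
    letI : Module ((R ⧸ m) ⊗[R] A) ((R ⧸ m) ⊗[R] M) := Module.compHom _ (rho (A := A) (R ⧸ m) M).toRingHom
    letI : Module ((R ⧸ m) ⊗[R] A) ((R ⧸ m) ⊗[R] N) := Module.compHom _ (rho (A := A) (R ⧸ m) N).toRingHom
    haveI : IsScalarTower (R ⧸ m) ((R ⧸ m) ⊗[R] A) ((R ⧸ m) ⊗[R] M) := ⟨fun c s x => by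
      show rho (R ⧸ m) M (c • s) x = c • rho (R ⧸ m) M s x
      rw [map_smul, LinearMap.smul_apply]⟩
    haveI : IsScalarTower (R ⧸ m) ((R ⧸ m) ⊗[R] A) ((R ⧸ m) ⊗[R] N) := ⟨fun c s x => by
      show rho (R ⧸ m) N (c • s) x = c • rho (R ⧸ m) N s x
      rw [map_smul, LinearMap.smul_apply]⟩
    obtain ⟨p, s, hps⟩ : ∃ (p : ((R ⧸ m) ⊗[R] M) →ₗ[(R ⧸ m) ⊗[R] A] ((R ⧸ m) ⊗[R] N)) (s : ((R ⧸ m) ⊗[R] N) →ₗ[(R ⧸ m) ⊗[R] A] ((R ⧸ m) ⊗[R] M)),
        p ∘ₗ s = LinearMap.id := by
      obtain ⟨S0, -, hpos, hall⟩ := Groth.CSA.exists_linearEquiv_fin_fun.{u, max u v, max u w} (R ⧸ m) ((R ⧸ m) ⊗[R] A)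
      obtain ⟨d, ⟨eM⟩, hd⟩ := hall ((R ⧸ m) ⊗[R] M)
      obtain ⟨c, ⟨eN⟩, hc⟩ := hall ((R ⧸ m) ⊗[R] N)
      have hcd : c ≤ d := by
        have := h m
        rw [← finrank_residue m, ← finrank_residue m, hc, hd] at this
        exact Nat.le_of_mul_le_mul_right this hpos
      let ext : (Fin c → S0) →ₗ[(R ⧸ m) ⊗[R] A] (Fin d → S0) :=
        LinearMap.pi fun i => if hi : (i : ℕ) < c then LinearMap.proj ⟨i, hi⟩ else 0
      refine ⟨eN.symm.toLinearMap ∘ₗ LinearMap.funLeft ((R ⧸ m) ⊗[R] A) S0 (Fin.castLE hcd) ∘ₗ eM.toLinearMap,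
        eM.symm.toLinearMap ∘ₗ ext ∘ₗ eN.toLinearMap, LinearMap.ext fun x => ?_⟩
      simp only [LinearMap.comp_apply, LinearEquiv.coe_coe, LinearEquiv.apply_symm_apply, LinearMap.id_apply]
      rw [LinearEquiv.symm_apply_eq]
      funext i
      simp [ext, LinearMap.funLeft_apply]
    have lift : ∀ {P Q : Type w} [AddCommGroup P] [Module R P] [Module A P] [IsScalarTower R A P] [Module.Projective A P]
        [AddCommGroup Q] [Module R Q] [Module A Q] [IsScalarTower R A Q] (φ : ((R ⧸ m) ⊗[R] P) →ₗ[(R ⧸ m)] ((R ⧸ m) ⊗[R] Q)),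
        (∀ (a : A) z, φ (rho (R ⧸ m) P ((1 : (R ⧸ m)) ⊗ₜ a) z) = rho (R ⧸ m) Q ((1 : (R ⧸ m)) ⊗ₜ a) (φ z)) →
          ∃ f : P →ₗ[A] Q, (f.restrictScalars R).baseChange (R ⧸ m) = φ := by
      intro P Q _ _ _ _ _ _ _ _ _ φ hφ
      letI : Module A ((R ⧸ m) ⊗[R] Q) :=
        Module.compHom _ ((rho (A := A) (R ⧸ m) Q).toRingHom.comp
          (Algebra.TensorProduct.includeRight : A →ₐ[R] (R ⧸ m) ⊗[R] A).toRingHom)
      let μ : Q →ₗ[A] ((R ⧸ m) ⊗[R] Q) :=
        { toFun := fun x => (1 : (R ⧸ m)) ⊗ₜ[R] x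
          map_add' := fun x y => tmul_add _ _ _
          map_smul' := fun a x => by
            show _ = rho (R ⧸ m) Q ((1 : (R ⧸ m)) ⊗ₜ[R] a) ((1 : (R ⧸ m)) ⊗ₜ[R] x)
            rw [rho_tmul, mul_one] }
      let ψ : P →ₗ[A] ((R ⧸ m) ⊗[R] Q) :=
        { toFun := fun x => φ ((1 : (R ⧸ m)) ⊗ₜ[R] x)
          map_add' := fun x y => by rw [tmul_add, map_add]
          map_smul' := fun a x => by
            show _ = rho (R ⧸ m) Q ((1 : (R ⧸ m)) ⊗ₜ[R] a) _
            rw [← hφ, rho_tmul, mul_one] }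
      obtain ⟨f, hf⟩ := Module.projective_lifting_property μ ψ
        (TensorProduct.mk_surjective R Q (R ⧸ m) Ideal.Quotient.mk_surjective)
      refine ⟨f, AlgebraTensorModule.curry_injective (LinearMap.ext_ring (LinearMap.ext fun x => ?_))⟩
      have := LinearMap.congr_fun hf x
      simpa [μ, ψ] using this
    obtain ⟨f, hf⟩ := lift (p.restrictScalars (R ⧸ m)) fun c z => p.map_smul ((1 : (R ⧸ m)) ⊗ₜ[R] c) z
    obtain ⟨g, hg⟩ := lift (s.restrictScalars (R ⧸ m)) fun c z => s.map_smul ((1 : (R ⧸ m)) ⊗ₜ[R] c) z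
    obtain ⟨x0, rfl⟩ := hFm f
    obtain ⟨y0, rfl⟩ := hGm g
    refine ⟨Ideal.Quotient.mk m ∘ Sum.elim x0 y0, ?_⟩
    have h3 : aeval (Ideal.Quotient.mk m ∘ Sum.elim x0 y0) F = Ideal.Quotient.mk m (eval (Sum.elim x0 y0) F) := by
      have := MvPolynomial.aeval_algebraMap_apply (B := R ⧸ m) (Sum.elim x0 y0) F
      rwa [Ideal.Quotient.algebraMap_eq] at this
    have h1 : (T x0 y0).baseChange (R ⧸ m) = LinearMap.id := by
      simp only [T, LinearMap.baseChange_add, LinearMap.baseChange_sub, LinearMap.baseChange_comp,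
        LinearMap.baseChange_id]
      rw [hf, hg, show (p.restrictScalars (R ⧸ m)) ∘ₗ (s.restrictScalars (R ⧸ m)) = LinearMap.id by
        rw [← LinearMap.restrictScalars_comp, hps]; rfl, LinearMap.id_comp]
      abel
    rw [h3, heval, Sum.elim_comp_inl, Sum.elim_comp_inr, det_eq_one _ m h1]
    exact one_ne_zero
  rw [heval] at hy
  refine ⟨Fm (y ∘ Sum.inl), fun z => ?_⟩
  obtain ⟨z', hz'⟩ := (bijective_of_isUnit_det uN vN huN _ hy).2 z
  exact ⟨Gm (y ∘ Sum.inr) z', hz'⟩

/-- Projective modules of the same rank over an Azumaya algebra are isomorphic. -/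
theorem nonempty_module_equiv (hR : LGRing.IsLGRing R) [IsAzumaya R A] {M N : Type w}
    [AddCommGroup M] [Module R M] [Module A M] [IsScalarTower R A M] [Module.Finite A M] [Module.Projective A M]
    [AddCommGroup N] [Module R N] [Module A N] [IsScalarTower R A N] [Module.Finite A N] [Module.Projective A N]
    (h : ∀ p : PrimeSpectrum R, Module.rankAtStalk M p = Module.rankAtStalk N p) :
    Nonempty (M ≃ₗ[A] N) := by
  obtain ⟨f, hf⟩ := exists_surjective (A := A) hR (M := M) (N := N) fun m _ => (h _).ge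
  obtain ⟨s, hs⟩ := Module.projective_lifting_property f LinearMap.id hf
  haveI : Module.Finite R M := Module.Finite.trans A M
  haveI : Module.Finite R N := Module.Finite.trans A N
  haveI : Module.Projective R M := projective_of_projective (A := A) _
  haveI : Module.Projective R N := projective_of_projective (A := A) _
  let K := LinearMap.ker (f.restrictScalars R)
  have hfs : ∀ x, f (s x) = x := fun x => LinearMap.congr_fun hs x
  let i : M →ₗ[R] K := (LinearMap.id - (s ∘ₗ f).restrictScalars R).codRestrict K fun x => by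
    simp [K, hfs]
  have hi : i ∘ₗ K.subtype = LinearMap.id := LinearMap.ext fun x => Subtype.ext <| by
    have hx : f x.1 = 0 := x.2
    simp [i, hx]
  haveI : Module.Projective R K := Module.Projective.of_split K.subtype i hi
  haveI : Module.Finite R K := Module.Finite.of_surjective i fun x => ⟨x.1, LinearMap.congr_fun hi x⟩
  let e : M ≃ₗ[R] K × N := LinearEquiv.ofLinearMap (i.prod (f.restrictScalars R))
    (K.subtype.coprod (s.restrictScalars R))
    (LinearMap.ext fun x => by
      obtain ⟨x, y⟩ := x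
      have hx : f x.1 = 0 := x.2
      refine Prod.ext (Subtype.ext ?_) ?_ <;> simp [i, hx, hfs])
    (LinearMap.ext fun x => by simp [i])
  have hK : Subsingleton K := by
    rw [← Module.rankAtStalk_eq_zero_iff_subsingleton (R := R)]
    funext p
    have h1 := congr_fun ((Module.rankAtStalk_eq_of_equiv e).trans (Module.rankAtStalk_prod K N)) p
    rw [h p, Pi.add_apply] at h1
    simp only [Pi.zero_apply]
    omega
  exact ⟨LinearEquiv.ofBijective f ⟨(injective_iff_map_eq_zero f).2 fun x hx =>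
    congrArg Subtype.val (Subsingleton.elim (⟨x, hx⟩ : K) 0), hf⟩⟩

/-- Left multiples of an idempotent. -/
def leftIdeal {E : Type v} [Ring E] (e : E) : Submodule E E := LinearMap.range (LinearMap.toSpanSingleton E E e)

theorem mul_self_of_mem {E : Type v} [Ring E] {e x : E} (he : e * e = e) (hx : x ∈ leftIdeal e) : x * e = x := by
  obtain ⟨y, rfl⟩ := hx
  simp [mul_assoc, he]

theorem projective_leftIdeal {E : Type v} [Ring E] {e : E} (he : e * e = e) :
    Module.Finite E (leftIdeal e) ∧ Module.Projective E (leftIdeal e) :=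
  ⟨Module.Finite.range _, Module.Projective.of_split (leftIdeal e).subtype
    ((LinearMap.toSpanSingleton E E e).codRestrict _ fun x => ⟨x, rfl⟩)
    (LinearMap.ext fun x => Subtype.ext (mul_self_of_mem he x.2))⟩

variable {B : Type w} [Ring B] [Algebra R B] {V : Type w'} [AddCommGroup V] [Module R V]
  [Module.Finite R V] [Module.Projective R V]

theorem rank_leftIdeal [Module.Finite R A] [Module.Projective R A] (v : V) (φ : Module.Dual R V) (hv : φ v = 1)
    (p : PrimeSpectrum R) :
    Module.rankAtStalk (leftIdeal ((1 : A) ⊗ₜ[R] (φ.smulRight v : Module.End R V))) p =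
      Module.rankAtStalk A p * Module.rankAtStalk (R := R) V p := by
  set π : Module.End R V := φ.smulRight v
  set I := leftIdeal ((1 : A) ⊗ₜ[R] π)
  have hπ : ∀ f : Module.End R V, f * π = φ.smulRight (f v) := fun f => LinearMap.ext fun x => by simp [π]
  let jV : V →ₗ[R] Module.End R V := LinearMap.smulRightₗ φ
  let ev : Module.End R V →ₗ[R] V := LinearMap.applyₗ v
  have hmem : ∀ z : A ⊗[R] V, jV.lTensor A z ∈ I.restrictScalars R := by
    intro z
    induction z using TensorProduct.induction_on with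
    | zero => simp
    | tmul a x =>
      refine ⟨a ⊗ₜ[R] jV x, ?_⟩
      show (a ⊗ₜ[R] jV x) * ((1 : A) ⊗ₜ[R] π) = _
      rw [Algebra.TensorProduct.tmul_mul_tmul, mul_one, LinearMap.lTensor_tmul, hπ]
      congr 1
      refine LinearMap.ext fun y => ?_
      simp [jV, hv]
    | add a b ha hb => rw [map_add]; exact add_mem ha hb
  let j : A ⊗[R] V →ₗ[R] (I.restrictScalars R) := (jV.lTensor A).codRestrict _ hmem
  have hl : ∀ z, ev.lTensor A (jV.lTensor A z) = z := fun z => by
    rw [← LinearMap.lTensor_comp_apply, show ev ∘ₗ jV = LinearMap.id from LinearMap.ext fun x => by simp [ev, jV, hv],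
      LinearMap.lTensor_id, LinearMap.id_apply]
  have hbij : Function.Bijective j := by
    refine ⟨fun z z' h => by rw [← hl z, ← hl z']; exact congrArg (ev.lTensor A) (congrArg Subtype.val h), ?_⟩
    rintro ⟨x, hx⟩
    obtain ⟨y, rfl⟩ := hx
    refine ⟨ev.lTensor A y, Subtype.ext ?_⟩
    show jV.lTensor A (ev.lTensor A y) = y * ((1 : A) ⊗ₜ[R] π)
    induction y using TensorProduct.induction_on with
    | zero => simp
    | tmul a f => simp [jV, ev, hπ, Algebra.TensorProduct.tmul_mul_tmul]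
    | add a b ha hb => rw [map_add, map_add, ha, hb, add_mul]
  let e : A ⊗[R] V ≃ₗ[R] I := (LinearEquiv.ofBijective j hbij).trans
    { toFun := fun x => ⟨x.1, x.2⟩, invFun := fun x => ⟨x.1, x.2⟩, map_add' := fun _ _ => rfl, map_smul' := fun _ _ => rfl }
  rw [← Module.rankAtStalk_eq_of_equiv e, Module.rankAtStalk_tensorProduct, Pi.mul_apply]

/-- Cancellation of a matrix algebra. -/
theorem cancel (hR : LGRing.IsLGRing R) [IsAzumaya R A] [IsAzumaya R B] (v : V) (φ : Module.Dual R V) (hv : φ v = 1)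
    (e : A ⊗[R] Module.End R V ≃ₐ[R] B ⊗[R] Module.End R V) : Nonempty (A ≃ₐ[R] B) := by
  haveI : FaithfulSMul R V := ⟨fun {r r'} h => by
    have := congrArg φ (h v); rwa [map_smul, map_smul, hv, smul_eq_mul, smul_eq_mul, mul_one, mul_one] at this⟩
  haveI : IsAzumaya R (Module.End R V) := Groth.Agent.S19589.result R V
  haveI : IsAzumaya R (B ⊗[R] Module.End R V) := Groth.Agent.S19587.result R B (Module.End R V)
  set π : Module.End R V := φ.smulRight v
  have hππ : π * π = π := LinearMap.ext fun x => by simp [π, hv]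
  set η : B ⊗[R] Module.End R V := (1 : B) ⊗ₜ[R] π
  set ε : B ⊗[R] Module.End R V := e ((1 : A) ⊗ₜ[R] π)
  have hη : η * η = η := by simp [η, Algebra.TensorProduct.tmul_mul_tmul, hππ]
  have hε : ε * ε = ε := by simp [ε, ← map_mul, Algebra.TensorProduct.tmul_mul_tmul, hππ]
  obtain ⟨_, _⟩ := projective_leftIdeal hη
  obtain ⟨_, _⟩ := projective_leftIdeal hε
  have hVpos : ∀ p : PrimeSpectrum R, 0 < Module.rankAtStalk (R := R) V p := fun p => by
    rw [Module.rankAtStalk_pos_iff_mem_support, Module.support_eq_zeroLocus, PrimeSpectrum.mem_zeroLocus,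
      Module.annihilator_eq_bot.2 inferInstance]
    simp
  have hEnd := Groth.Azum.finite_projective_end R V
  haveI := hEnd.1
  haveI := hEnd.2
  have hAB : ∀ p : PrimeSpectrum R, Module.rankAtStalk (R := R) A p = Module.rankAtStalk (R := R) B p := fun p => by
    have h1 := congr_fun (Module.rankAtStalk_eq_of_equiv e.toLinearEquiv) p
    rw [Module.rankAtStalk_tensorProduct, Module.rankAtStalk_tensorProduct, Pi.mul_apply, Pi.mul_apply] at h1
    refine Nat.eq_of_mul_eq_mul_right ?_ h1
    rw [Module.rankAtStalk_pos_iff_mem_support, Module.support_eq_zeroLocus, PrimeSpectrum.mem_zeroLocus,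
      Module.annihilator_eq_bot.2 inferInstance]
    simp
  obtain ⟨θ⟩ := nonempty_module_equiv (A := B ⊗[R] Module.End R V) hR (M := leftIdeal ε) (N := leftIdeal η) fun p => by
    rw [rank_leftIdeal v φ hv, ← hAB, ← rank_leftIdeal (A := A) v φ hv]
    refine congr_fun (Module.rankAtStalk_eq_of_equiv (LinearEquiv.symm ?_)) p
    refine
      { toFun := fun x => ⟨e x.1, ?_⟩
        invFun := fun x => ⟨e.symm x.1, ?_⟩
        left_inv := fun x => Subtype.ext (e.symm_apply_apply _)
        right_inv := fun x => Subtype.ext (e.apply_symm_apply _)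
        map_add' := fun x y => Subtype.ext (map_add e _ _)
        map_smul' := fun r x => Subtype.ext (map_smul e r _) }
    · obtain ⟨y, hy⟩ := x.2
      exact ⟨e y, by rw [← hy]; simp [ε, π, ← map_mul]⟩
    · obtain ⟨y, hy⟩ := x.2
      exact ⟨e.symm y, by rw [← hy]; simp [ε, π, map_mul]⟩
  let εI : leftIdeal ε := ⟨ε, ⟨1, by simp⟩⟩
  let ηI : leftIdeal η := ⟨η, ⟨1, by simp⟩⟩
  set x := (θ εI).1 with hx
  set y := (θ.symm ηI).1 with hy
  have hxη : x * η = x := mul_self_of_mem hη (θ εI).2
  have hyε : y * ε = y := mul_self_of_mem hε (θ.symm ηI).2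
  have hεx : ε * x = x := by
    have : ε • θ εI = θ εI := by
      rw [← θ.map_smul]; congr 1; exact Subtype.ext hε
    exact congrArg Subtype.val this
  have hηy : η * y = y := by
    have : η • θ.symm ηI = θ.symm ηI := by
      rw [← θ.symm.map_smul]; congr 1; exact Subtype.ext hη
    exact congrArg Subtype.val this
  have hxy : x * y = ε := by
    have h1 : x • ηI = θ εI := Subtype.ext hxη
    have h2 : x • θ.symm ηI = εI := by rw [← θ.symm.map_smul, h1, θ.symm_apply_apply]
    exact congrArg Subtype.val h2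
  have hyx : y * x = η := by
    have h1 : y • εI = θ.symm ηI := Subtype.ext hyε
    have h2 : y • θ εI = ηI := by rw [← θ.map_smul, h1, θ.apply_symm_apply]
    exact congrArg Subtype.val h2
  let jA : A →ₗ[R] A ⊗[R] Module.End R V := (TensorProduct.mk R A (Module.End R V)).flip π
  let jB : B →ₗ[R] B ⊗[R] Module.End R V := (TensorProduct.mk R B (Module.End R V)).flip π
  let qA : A ⊗[R] Module.End R V →ₗ[R] A :=
    (TensorProduct.rid R A).toLinearMap ∘ₗ (φ ∘ₗ LinearMap.applyₗ v).lTensor A
  let qB : B ⊗[R] Module.End R V →ₗ[R] B :=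
    (TensorProduct.rid R B).toLinearMap ∘ₗ (φ ∘ₗ LinearMap.applyₗ v).lTensor B
  have hqA : ∀ a, qA (jA a) = a := fun a => by simp [qA, jA, π, hv]
  have hqB : ∀ a, qB (jB a) = a := fun a => by simp [qB, jB, π, hv]
  have hπfπ : ∀ f : Module.End R V, π * f * π = φ (f v) • π := fun f => LinearMap.ext fun z => by
    simp [π, hv, smul_smul, mul_comm]
  have hcB : ∀ z, η * z * η = jB (qB z) := by
    intro z
    induction z using TensorProduct.induction_on with
    | zero => simp
    | tmul a f => simp [η, jB, qB, Algebra.TensorProduct.tmul_mul_tmul, hπfπ, TensorProduct.smul_tmul]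
    | add a b ha hb => rw [mul_add, add_mul, ha, hb, map_add, map_add]
  have hcA : ∀ z, ((1 : A) ⊗ₜ[R] π) * z * ((1 : A) ⊗ₜ[R] π) = jA (qA z) := by
    intro z
    induction z using TensorProduct.induction_on with
    | zero => simp
    | tmul a f => simp [jA, qA, Algebra.TensorProduct.tmul_mul_tmul, hπfπ, TensorProduct.smul_tmul]
    | add a b ha hb => rw [mul_add, add_mul, ha, hb, map_add, map_add]
  have hjA : ∀ a a', jA (a * a') = jA a * jA a' := fun a a' => by simp [jA, Algebra.TensorProduct.tmul_mul_tmul, hππ]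
  have hjB : ∀ a a', jB (a * a') = jB a * jB a' := fun a a' => by simp [jB, Algebra.TensorProduct.tmul_mul_tmul, hππ]
  have hjA1 : ∀ a, ((1 : A) ⊗ₜ[R] π) * jA a = jA a ∧ jA a * ((1 : A) ⊗ₜ[R] π) = jA a := fun a => by
    simp [jA, Algebra.TensorProduct.tmul_mul_tmul, hππ]
  have hjB1 : ∀ a, η * jB a = jB a ∧ jB a * η = jB a := fun a => by
    simp [η, jB, Algebra.TensorProduct.tmul_mul_tmul, hππ]
  let ψ : A →ₗ[R] B := qB ∘ₗ LinearMap.mulLeft R y ∘ₗ LinearMap.mulRight R x ∘ₗ e.toLinearMap ∘ₗ jA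
  have hψ : ∀ a, jB (ψ a) = y * (e (jA a) * x) := fun a => by
    rw [show ψ a = qB (y * (e (jA a) * x)) from rfl, ← hcB, ← mul_assoc η, hηy, mul_assoc, mul_assoc, hxη]
  have hεjA : ∀ a, ε * e (jA a) = e (jA a) ∧ e (jA a) * ε = e (jA a) := fun a => by
    simp only [ε, ← map_mul, hjA1, and_self]
  have hjBinj : Function.Injective jB := fun a b h => by rw [← hqB a, ← hqB b, h]
  have hψmul : ∀ a a', ψ (a * a') = ψ a * ψ a' := fun a a' => hjBinj <| by
    rw [hjB, hψ, hψ, hψ, hjA, map_mul]
    calc y * (e (jA a) * e (jA a') * x) = y * (e (jA a) * (ε * e (jA a')) * x) := by rw [(hεjA a').1]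
      _ = _ := by rw [← hxy]; simp only [mul_assoc]
  have hψone : ψ 1 = 1 := hjBinj <| by
    rw [hψ]
    show y * (ε * x) = η
    rw [hεx, hyx]
  refine ⟨AlgEquiv.ofBijective (AlgHom.ofLinearMap ψ hψone hψmul) ⟨fun a a' h => ?_, fun b => ?_⟩⟩
  · have h' : ψ a = ψ a' := h
    have h1 : x * jB (ψ a) * y = x * jB (ψ a') * y := by rw [h']
    simp only [hψ, ← mul_assoc] at h1
    rw [hxy] at h1
    simp only [mul_assoc, hxy] at h1
    rw [(hεjA a).2, (hεjA a').2, (hεjA a).1, (hεjA a').1] at h1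
    rw [← hqA a, ← hqA a', e.injective h1]
  · refine ⟨qA (e.symm (x * jB b * y)), hjBinj ?_⟩
    show jB (ψ _) = _
    rw [hψ, ← hcA, map_mul, map_mul, e.apply_symm_apply]
    show y * (ε * (x * jB b * y) * ε * x) = jB b
    simp only [mul_assoc]
    rw [hεx, hyx, (hjB1 b).2, ← mul_assoc ε, hεx, ← mul_assoc y, hyx, (hjB1 b).1]

end Groth.LG
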